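import Groth.Agent.BTH3.Rank
import Groth.Agent.GrpQLib.FlatKernel
import Groth.Agent.AlgGrpLib.SubgroupCalc
import Groth.Agent.FlatLocal.Descent
import Groth.Prelude.Def_Mor2
import Groth.Prelude.Def_BT

/-!
# Homomorphisms of finite locally free group schemes with kernel of complementary degree are fppf
-/

set_option autoImplicit false
set_option linter.style.haveILetI false
set_option backward.isDefEq.respectTransparency.types false

universe u

open CategoryTheory CategoryTheory.Limits MonoidalCategory CartesianMonoidalCategory MonObj GrpObj AlgebraicGeometry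

namespace Groth.Agent.BTH3

variable {R : CommRingCat.{u}}

theorem isFinLocFreeOfDeg_of_kernel {G H N : Over (Spec R)} [GrpObj G] [GrpObj H] (u : G ⟶ H) [IsMonHom u]
    (j : N ⟶ G) (hk : AlgGrp.IsKernel j u) {a n q : ℕ} (hN : Mor2.IsFinLocFreeOfDeg a N.hom)
    (hG : Mor2.IsFinLocFreeOfDeg n G.hom) (hH : Mor2.IsFinLocFreeOfDeg q H.hom) (hn : n = q * a) (ha : 0 < a) :
    Mor2.IsFinLocFreeOfDeg a u.left ∧ Surjective u.left := by
  obtain ⟨⟨hN1, hN2, hN3⟩, hNd⟩ := hN
  obtain ⟨⟨hG1, hG2, hG3⟩, hGd⟩ := hG
  obtain ⟨⟨hH1, hH2, hH3⟩, hHd⟩ := hH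
  let e : N ≅ pullback u η[H] := IsPullback.isoPullback hk
  have hK : Flat (pullback u η[H]).hom := by
    rw [← Over.w e.inv]; infer_instance
  obtain ⟨Q, _, p, i, hp, hi, hpi, hps, hpf, hpl, him, hQl, hker⟩ := GrpQLib.exists_image u hK
  haveI : Mono i.left := Over.mono_left_of_mono i
  have hleft : p.left ≫ i.left = u.left := by rw [← Over.comp_left, hpi]
  haveI : IsFinite u.left := by
    haveI : IsFinite (u.left ≫ H.hom) := by rw [Over.w]; infer_instance
    exact IsFinite.of_comp u.left H.hom
  haveI : IsFinite p.left := by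
    haveI : IsFinite (p.left ≫ i.left) := by rw [hleft]; infer_instance
    exact IsFinite.of_comp p.left i.left
  -- degree of `p`
  have hpd : ∀ y, p.left.finrank y = a := by
    intro y
    obtain ⟨x, rfl⟩ := p.left.surjective y
    let e' : N ≅ pullback p η[Q] := e ≪≫ IsPullback.isoPullback hker
    have hKe : (pullback p η[Q]).hom = e'.inv.left ≫ N.hom := (Over.w e'.inv).symm
    haveI : IsFinite (pullback p η[Q]).hom := by rw [hKe]; infer_instance
    haveI : Flat (pullback p η[Q]).hom := by rw [hKe]; infer_instance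
    have sq := ((GrpQLib.isPullback_translate p).map (Over.forget (Spec R))).flip
    refine (@Scheme.Hom.finrank_of_isPullback _ _ _ _ _ _ _ _ sq hpf ‹IsFinite p.left› x).symm.trans ?_
    refine (Scheme.Hom.finrank_pullback_fst (pullback p η[Q]).hom G.hom x).trans ?_
    simp only [hKe, Scheme.Hom.finrank_comp_left_of_isIso, hNd]
  -- the image
  have hpQ : p.left ≫ Q.hom = G.hom := Over.w p
  haveI : Flat Q.hom := by
    haveI : Flat (p.left ≫ Q.hom) := by rw [hpQ]; infer_instance
    exact FlatLocal.flat_of_comp p.left Q.hom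
  haveI : UniversallyClosed Q.hom := by
    haveI : UniversallyClosed (p.left ≫ Q.hom) := by rw [hpQ]; infer_instance
    exact UniversallyClosed.of_comp_surjective p.left Q.hom
  haveI : IsSeparated Q.hom := by rw [← Over.w i]; infer_instance
  haveI : IsProper Q.hom := {}
  haveI : IsProper i.left := by
    haveI : IsProper (i.left ≫ H.hom) := by rw [Over.w]; infer_instance
    exact IsProper.of_comp i.left H.hom
  haveI : IsClosedImmersion i.left := (IsClosedImmersion.iff_isProper_and_mono i.left).2 ⟨inferInstance, inferInstance⟩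
  haveI : IsFinite Q.hom := by rw [← Over.w i]; infer_instance
  have hQd : ∀ s, Q.hom.finrank s = H.hom.finrank s := fun s => by
    have h := finrank_comp p.left Q.hom hpd s
    simp only [hpQ, hGd, hn] at h
    rw [hHd]
    exact (Nat.eq_of_mul_eq_mul_right ha h).symm
  haveI : IsIso i.left := isIso_of_finrank_eq i.left H.hom Q.hom (Over.w i) hQd
  rw [← hleft]
  refine ⟨⟨⟨inferInstance, inferInstance, inferInstance⟩, fun y => ?_⟩, inferInstance⟩
  have hp' : IsPullback (𝟙 G.left) p.left (p.left ≫ i.left) i.left :=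
    IsPullback.of_horiz_isIso ⟨by simp⟩
  obtain ⟨z, rfl⟩ := i.left.homeomorph.surjective y
  refine Eq.trans ?_ (hpd z)
  exact (Scheme.Hom.finrank_of_isPullback _ _ _ _ hp' z).symm

end Groth.Agent.BTH3
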