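import Mathlib.AlgebraicGeometry.Morphisms.FlatRank
import Mathlib.AlgebraicGeometry.ResidueField
import Mathlib.AlgebraicGeometry.Morphisms.ClosedImmersion
import Mathlib.RingTheory.Spectrum.Prime.FreeLocus
import Mathlib.RingTheory.LocalRing.Module

/-! Degrees of finite flat morphisms: multiplicativity, closed immersions of equal degree. -/

set_option autoImplicit false
set_option linter.style.haveILetI false
set_option backward.isDefEq.respectTransparency.types false

universe u

open CategoryTheory CategoryTheory.Limits AlgebraicGeometry TensorProduct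

namespace Groth.Agent.BTH3

theorem free_of_rankAtStalk_eq {R : Type u} [CommRing R] [Finite (MaximalSpectrum R)] {M : Type u} [AddCommGroup M]
    [Module R M] [Module.Finite R M] [Module.Flat R M] {m : ℕ}
    (h : ∀ p, Module.rankAtStalk (R := R) M p = m) : Module.Free R M := by
  refine Module.free_of_flat_of_finrank_eq R M m fun P => ?_
  haveI := P.isMaximal
  letI := Ideal.Quotient.field P.asIdeal
  have h1 := Module.rankAtStalk_baseChange (R := R) (M := M) (S := R ⧸ P.asIdeal) ⟨⊥, Ideal.isPrime_bot⟩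
  rw [h, Module.rankAtStalk_eq_finrank_of_free] at h1
  exact h1

theorem finrank_tower {k B A : Type u} [Field k] [CommRing B] [CommRing A] [Algebra k B] [Algebra B A] [Algebra k A]
    [IsScalarTower k B A] [Module.Finite k B] [Module.Finite B A] [Module.Flat B A] {m : ℕ}
    (h : ∀ p, Module.rankAtStalk (R := B) A p = m) :
    Module.finrank k A = Module.finrank k B * m := by
  rcases subsingleton_or_nontrivial B with hB | hB
  · haveI : Subsingleton A := Module.subsingleton B A
    rw [Module.finrank_zero_of_subsingleton, Module.finrank_zero_of_subsingleton, Nat.zero_mul]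
  haveI : IsArtinianRing B := IsArtinianRing.of_finite k B
  haveI := free_of_rankAtStalk_eq h
  rw [← Module.finrank_mul_finrank k B A]
  obtain ⟨p⟩ : Nonempty (PrimeSpectrum B) := inferInstance
  rw [← h p, Module.rankAtStalk_eq_finrank_of_free]
  rfl

theorem finrank_comp_spec {k : Type u} [Field k] {B A : CommRingCat.{u}} (a : Spec A ⟶ Spec B)
    (b : Spec B ⟶ Spec (CommRingCat.of k)) [IsFinite a] [Flat a] [IsFinite b] [Flat b] {m : ℕ}
    (ha : ∀ y, a.finrank y = m) (s : Spec (CommRingCat.of k)) : (a ≫ b).finrank s = b.finrank s * m := by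
  obtain ⟨φ, rfl⟩ := Spec.map_surjective a
  obtain ⟨ψ, rfl⟩ := Spec.map_surjective b
  simp only [IsFinite.SpecMap_iff, Flat.SpecMap_iff] at *
  rw [← Spec.map_comp, Scheme.Hom.finrank_SpecMap_eq_finrank (f := ψ ≫ φ) ((‹φ.hom.Finite›).comp ‹ψ.hom.Finite›)
    (RingHom.Flat.comp ‹ψ.hom.Flat› ‹φ.hom.Flat›),
    Scheme.Hom.finrank_SpecMap_eq_finrank ‹ψ.hom.Finite› ‹ψ.hom.Flat›]
  rw [Scheme.Hom.finrank_SpecMap_eq_finrank ‹φ.hom.Finite› ‹φ.hom.Flat›] at ha
  algebraize [ψ.hom, φ.hom, φ.hom.comp ψ.hom]
  rw [CommRingCat.hom_comp, ← RingHom.algebraMap_toAlgebra ψ.hom, ← RingHom.algebraMap_toAlgebra φ.hom] at *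
  rw [← IsScalarTower.algebraMap_eq k B A, RingHom.finrank_algebraMap, RingHom.finrank_algebraMap]
  simp only [RingHom.finrank_algebraMap] at ha
  haveI : Module.Free k A := inferInstance
  rw [Module.rankAtStalk_eq_finrank_of_free, Module.rankAtStalk_eq_finrank_of_free]
  exact finrank_tower ha

/-- Degrees multiply over a field. -/
theorem finrank_comp_field {k : Type u} [Field k] {X Y : Scheme.{u}} (a : X ⟶ Y) (b : Y ⟶ Spec (CommRingCat.of k))
    [IsFinite a] [Flat a] [IsFinite b] [Flat b] {m : ℕ} (ha : ∀ y, a.finrank y = m) (s : Spec (CommRingCat.of k)) :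
    (a ≫ b).finrank s = b.finrank s * m := by
  haveI hYa : IsAffine Y := isAffine_of_isAffineHom b
  haveI hXa : IsAffine X := isAffine_of_isAffineHom a
  have h : ∀ y, (X.isoSpec.inv ≫ a ≫ Y.isoSpec.hom).finrank y = m := fun y => by
    rw [Scheme.Hom.finrank_comp_left_of_isIso]
    have hp : IsPullback (𝟙 X) (a ≫ Y.isoSpec.hom) a Y.isoSpec.inv := IsPullback.of_horiz_isIso ⟨by simp⟩
    rw [Scheme.Hom.finrank_of_isPullback _ _ _ _ hp]
    exact ha _
  have := finrank_comp_spec (X.isoSpec.inv ≫ a ≫ Y.isoSpec.hom) (Y.isoSpec.inv ≫ b) h s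
  simpa [Scheme.Hom.finrank_comp_left_of_isIso] using this

/-- Degrees multiply. -/
theorem finrank_comp {X Y S : Scheme.{u}} (a : X ⟶ Y) (b : Y ⟶ S)
    [IsFinite a] [Flat a] [IsFinite b] [Flat b] {m : ℕ} (ha : ∀ y, a.finrank y = m) (s : S) :
    (a ≫ b).finrank s = b.finrank s * m := by
  let σ := S.fromSpecResidueField s
  let pt : Spec (S.residueField s) := IsLocalRing.closedPoint _
  have hpt : σ pt = s := S.fromSpecResidueField_apply s pt
  let a' := pullback.snd a (pullback.fst b σ)
  have hsq : IsPullback (pullback.fst a (pullback.fst b σ)) (a' ≫ pullback.snd b σ) (a ≫ b) σ :=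
    (IsPullback.of_hasPullback _ _).paste_vert (IsPullback.of_hasPullback b σ)
  haveI : IsFinite (pullback.snd b σ) := MorphismProperty.pullback_snd _ _ ‹_›
  haveI : Flat (pullback.snd b σ) := MorphismProperty.pullback_snd _ _ ‹_›
  haveI : IsFinite a' := MorphismProperty.pullback_snd _ _ ‹_›
  haveI : Flat a' := MorphismProperty.pullback_snd _ _ ‹_›
  rw [← hpt, ← Scheme.Hom.finrank_of_isPullback _ _ _ _ hsq, ← Scheme.Hom.finrank_pullback_snd b σ]
  exact @finrank_comp_field (S.residueField s) _ _ _ a' (pullback.snd b σ) ‹IsFinite a'› ‹Flat a'› ‹IsFinite (pullback.snd b σ)› ‹Flat (pullback.snd b σ)› m (fun y => (Scheme.Hom.finrank_pullback_snd _ _ y).trans (ha _)) pt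

/-- A surjection of finite projective modules of the same rank is bijective. -/
theorem bijective_of_surjective_rank {R M N : Type u} [CommRing R] [AddCommGroup M] [AddCommGroup N] [Module R M]
    [Module R N] [Module.Finite R M] [Module.Flat R M] [Module.Finite R N] [Module.Projective R N]
    (f : M →ₗ[R] N) (hf : Function.Surjective f) (h : Module.rankAtStalk (R := R) M = Module.rankAtStalk N) :
    Function.Bijective f := by
  obtain ⟨σ, hσ⟩ := Module.projective_lifting_property f LinearMap.id hf
  have hpr : ∀ y, f (σ y) = y := fun y => LinearMap.congr_fun hσ y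
  let pr : M →ₗ[R] LinearMap.ker f := (LinearMap.id - σ ∘ₗ f).codRestrict _ fun x => by simp [hpr]
  let e : M ≃ₗ[R] LinearMap.ker f × N :=
    { (pr.prod f) with
      invFun := fun p => p.1.1 + σ p.2
      left_inv := fun x => by simp [pr]
      right_inv := fun p => Prod.ext (Subtype.ext (by simp [pr, hpr, show f p.1.1 = 0 from p.1.2]))
        (by simp [hpr, show f p.1.1 = 0 from p.1.2]) }
  haveI : Module.Finite R (LinearMap.ker f × N) := Module.Finite.equiv e
  haveI : Module.Flat R (LinearMap.ker f × N) := Module.Flat.of_linearEquiv e.symm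
  haveI : Module.Finite R (LinearMap.ker f) := Module.Finite.of_surjective (LinearMap.fst R _ N) Prod.fst_surjective
  haveI : Module.Flat R (LinearMap.ker f) := Module.Flat.of_retract (LinearMap.inl R _ N) (LinearMap.fst R _ N) (by ext; rfl)
  have h1 := Module.rankAtStalk_eq_of_equiv e
  rw [Module.rankAtStalk_prod, h] at h1
  have h2 : Module.rankAtStalk (R := R) (LinearMap.ker f) = 0 := funext fun p => by
    have := congrFun h1 p; simp only [Pi.add_apply, Pi.zero_apply] at this ⊢; omega
  haveI := Module.rankAtStalk_eq_zero_iff_subsingleton.1 h2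
  exact ⟨LinearMap.ker_eq_bot.1 (Submodule.eq_bot_of_subsingleton), hf⟩

theorem isIso_spec_of_finrank_eq {R C A : CommRingCat.{u}} (i : Spec A ⟶ Spec C) [IsClosedImmersion i]
    (b : Spec C ⟶ Spec R) [IsFinite b] [Flat b] [LocallyOfFinitePresentation b] [IsFinite (i ≫ b)] [Flat (i ≫ b)]
    [LocallyOfFinitePresentation (i ≫ b)] (h : ∀ s, (i ≫ b).finrank s = b.finrank s) : IsIso i := by
  obtain ⟨φ, rfl⟩ := Spec.map_surjective i
  obtain ⟨ψ, rfl⟩ := Spec.map_surjective b
  have hs : Function.Surjective φ.hom := by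
    intro x
    obtain ⟨y, hy⟩ := (IsClosedImmersion.isAffine_surjective_of_isAffine (Spec.map φ)).2 ((Scheme.ΓSpecIso A).inv x)
    refine ⟨(Scheme.ΓSpecIso C).hom y, ?_⟩
    have := ConcreteCategory.congr_hom (Scheme.ΓSpecIso_naturality φ) y
    simp only [CommRingCat.comp_apply] at this
    rw [hy, Iso.inv_hom_id_apply] at this
    exact this.symm
  simp only [← Spec.map_comp, IsFinite.SpecMap_iff, Flat.SpecMap_iff, LocallyOfFinitePresentation.SpecMap_iff] at *
  rw [Scheme.Hom.finrank_SpecMap_eq_finrank ‹(ψ ≫ φ).hom.Finite› ‹(ψ ≫ φ).hom.Flat›,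
    Scheme.Hom.finrank_SpecMap_eq_finrank ‹ψ.hom.Finite› ‹ψ.hom.Flat›] at h
  simp only [CommRingCat.hom_comp] at *
  algebraize [ψ.hom, φ.hom.comp ψ.hom]
  rw [← RingHom.algebraMap_toAlgebra (φ.hom.comp ψ.hom), ← RingHom.algebraMap_toAlgebra ψ.hom] at h
  simp only [RingHom.finrank_algebraMap] at h
  let l : C →ₐ[R] A := { φ.hom with commutes' := fun _ => rfl }
  haveI := Module.FinitePresentation.of_finite_of_finitePresentation (R := R) (S := A)
  haveI : Module.Projective R A := Module.Flat.projective_of_finitePresentation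
  have : IsIso φ := (ConcreteCategory.isIso_iff_bijective _).2
    (bijective_of_surjective_rank l.toLinearMap hs (funext fun p => (h p).symm))
  infer_instance

/-- Over an affine base a closed immersion between finite flat schemes of the same degree is an isomorphism. -/
theorem isIso_of_finrank_eq {R : CommRingCat.{u}} {Q H : Scheme.{u}} (i : Q ⟶ H) [IsClosedImmersion i]
    (b : H ⟶ Spec R) [IsFinite b] [Flat b] [LocallyOfFinitePresentation b] (f : Q ⟶ Spec R) (hf : i ≫ b = f)
    [IsFinite f] [Flat f] [LocallyOfFinitePresentation f] (h : ∀ s, f.finrank s = b.finrank s) : IsIso i := by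
  haveI hHa : IsAffine H := isAffine_of_isAffineHom b
  haveI hQa : IsAffine Q := isAffine_of_isAffineHom i
  let i' := Q.isoSpec.inv ≫ i ≫ H.isoSpec.hom
  have e : i' ≫ H.isoSpec.inv ≫ b = Q.isoSpec.inv ≫ f := by simp [i', hf]
  haveI : IsFinite (i' ≫ H.isoSpec.inv ≫ b) := by rw [e]; infer_instance
  haveI : Flat (i' ≫ H.isoSpec.inv ≫ b) := by rw [e]; infer_instance
  haveI : LocallyOfFinitePresentation (i' ≫ H.isoSpec.inv ≫ b) := by rw [e]; infer_instance
  have := isIso_spec_of_finrank_eq i' (H.isoSpec.inv ≫ b) (fun s => by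
    simp only [e, Scheme.Hom.finrank_comp_left_of_isIso]; exact h s)
  have : IsIso (i ≫ H.isoSpec.hom) := IsIso.of_isIso_comp_left Q.isoSpec.inv _
  exact IsIso.of_isIso_comp_right i H.isoSpec.hom

end Groth.Agent.BTH3
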